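import Groth.Agent.Lib.AlgSpDecent.FiniteNhd
import Mathlib.AlgebraicGeometry.Morphisms.QuasiSeparated

/-!
# Finiteness near a minimal point with finite fibre

A quasi-compact, quasi-separated morphism locally of finite type with finite fibre over a point
without generalisations is finite over an affine neighbourhood of that point.
-/

universe u

set_option backward.isDefEq.respectTransparency.types false

open CategoryTheory CategoryTheory.Limits AlgebraicGeometry Topology
open Groth.Agent.AlgSpDecent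

namespace Groth.Agent.FiniteNhd12

/-- A finite fibre of a morphism locally of finite type is discrete. -/
theorem isoIn_of_finite_fibre {X Y : Scheme.{u}} (f : X ⟶ Y) [LocallyOfFiniteType f] {x : X}
    (hfin : (f ⁻¹' {f x}).Finite) : IsoIn f x := by
  have hι : IsEmbedding (f.fiberι (f x)) := (f.fiberι (f x)).isEmbedding
  have : Finite (f.fiber (f x)) := Set.finite_univ_iff.1 <|
    Set.Finite.of_finite_image (hfin.subset (by
      rw [← f.range_fiberι, Set.image_univ]))
      hι.injective.injOn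
  obtain ⟨z, hz⟩ : x ∈ Set.range (f.fiberι (f x)) := (f.range_fiberι (f x)).ge rfl
  obtain ⟨O, hO, hOz⟩ := hι.isOpen_iff.1 (isOpen_discrete ({z} : Set (f.fiber (f x))))
  refine ⟨O, hO, hz ▸ (hOz.ge rfl : z ∈ f.fiberι (f x) ⁻¹' O), fun x' hx' e => ?_⟩
  obtain ⟨z', hz'⟩ : x' ∈ Set.range (f.fiberι (f x)) := (f.range_fiberι (f x)).ge e
  have : z' ∈ f.fiberι (f x) ⁻¹' O := show f.fiberι (f x) z' ∈ O from hz'.symm ▸ hx'
  rw [hOz, Set.mem_singleton_iff] at this
  rw [← hz', this, hz]

/-- A point without generalisations avoids the closure of the image of a closed subset which does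
not meet its fibre. -/
theorem not_mem_closure_image {X Y : Scheme.{u}} (f : X ⟶ Y) [QuasiCompact f] {v : Y}
    (hv : ∀ v', v' ⤳ v → v' = v) {K : Set X} (hK : IsClosed K) (h : ∀ x ∈ K, f x ≠ v) :
    v ∉ closure (f '' K) := by
  intro hmem
  let Z : Scheme.{u} := (Scheme.IdealSheafData.vanishingIdeal ⟨K, hK⟩).subscheme
  let i : Z ⟶ X := (Scheme.IdealSheafData.vanishingIdeal ⟨K, hK⟩).subschemeι
  have hrange : Set.range i = K := by
    rw [Scheme.IdealSheafData.range_subschemeι, Scheme.IdealSheafData.coe_support_vanishingIdeal]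
    rfl
  have e : Set.range (i ≫ f) = f '' K := by
    rw [← hrange, ← Set.range_comp]
    rfl
  obtain ⟨z, hz⟩ := exists_specializes_of_mem_closure_range (i ≫ f) (e ▸ hmem)
  exact h (i z) (hrange.le ⟨z, rfl⟩) (hv _ hz)

/-- Quasi-finiteness spreads to a neighbourhood of a minimal point with discrete fibre. -/
theorem exists_nhd_lqf {X Y : Scheme.{u}} (f : X ⟶ Y) [LocallyOfFiniteType f] [QuasiCompact f]
    {v : Y} (hv : ∀ v', v' ⤳ v → v' = v) (hqf : ∀ x, f x = v → IsoIn f x) :
    ∃ N : Y.Opens, v ∈ N ∧ LocallyQuasiFinite (f ∣_ N) := by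
  let O := f.quasiFiniteLocus
  have hvK : v ∉ closure (f '' (O : Set X)ᶜ) :=
    not_mem_closure_image f hv O.isOpen.isClosed_compl fun x hx hfx =>
      hx (quasiFiniteAt_of_isoIn f (hqf x hfx))
  let N : Y.Opens := ⟨_, (isClosed_closure (s := f '' (O : Set X)ᶜ)).isOpen_compl⟩
  refine ⟨N, hvK, ?_⟩
  rw [← Scheme.Hom.quasiFiniteLocus_eq_top_iff, eq_top_iff]
  intro w _
  have hw : w.1 ∈ O := by
    by_contra h
    exact (w.2 : f w.1 ∈ N) (subset_closure ⟨w.1, h, rfl⟩)
  rw [Scheme.Hom.mem_quasiFiniteLocus, ← Scheme.Hom.quasiFiniteAt_comp_iff (g := N.ι),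
    morphismRestrict_ι]
  exact Scheme.Hom.quasiFiniteAt_comp_iff_of_isOpenImmersion.2 hw

/-- A quasi-finite quasi-separated morphism is separated over a neighbourhood of a point without
generalisations. -/
theorem exists_nhd_separated {X Y : Scheme.{u}} (f : X ⟶ Y) [LocallyQuasiFinite f]
    [QuasiCompact f] [QuasiSeparated f] {v : Y} (hv : ∀ v', v' ⤳ v → v' = v) :
    ∃ N : Y.Opens, v ∈ N ∧ IsSeparated (f ∣_ N) := by
  let δ := pullback.diagonal f
  let π := pullback.fst f f ≫ f
  let B : Set ↥(pullback f f) := closure (Set.range δ) \ Set.range δ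
  have hB : IsClosed B := by
    have h : IsOpen (coborder (Set.range δ)) :=
      isLocallyClosed_iff_isOpen_coborder.1 δ.isLocallyClosed_range
    rw [coborder, isOpen_compl_iff] at h
    exact h
  have hvB : v ∉ closure (π '' B) := not_mem_closure_image π hv hB fun b hb hbv => by
    obtain ⟨x, hx⟩ := exists_specializes_of_mem_closure_range δ hb.1
    obtain ⟨O, hO, hbO, huniq⟩ := isoIn_of_lqf π b
    refine hb.2 ⟨x, huniq _ (hx.mem_open hO hbO) ?_⟩
    rw [hbv]
    exact hv _ (hbv ▸ hx.map π.continuous)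
  let N : Y.Opens := ⟨_, (isClosed_closure (s := π '' B)).isOpen_compl⟩
  refine ⟨N, hvB, ⟨?_⟩⟩
  let g := f ∣_ N
  let m : pullback g g ⟶ pullback f f :=
    pullback.map g g f f (f ⁻¹ᵁ N).ι (f ⁻¹ᵁ N).ι N.ι (morphismRestrict_ι f N)
      (morphismRestrict_ι f N)
  have hdm : pullback.diagonal g ≫ m = (f ⁻¹ᵁ N).ι ≫ δ := by
    have h₁ : pullback.diagonal g ≫ pullback.fst g g = 𝟙 _ := pullback.diagonal_fst g
    have h₂ : pullback.diagonal g ≫ pullback.snd g g = 𝟙 _ := pullback.diagonal_snd g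
    apply pullback.hom_ext
    · simp only [Category.assoc, m, δ, pullback.lift_fst, pullback.diagonal_fst, Category.comp_id]
      rw [reassoc_of% h₁]
    · simp only [Category.assoc, m, δ, pullback.lift_snd, pullback.diagonal_snd, Category.comp_id]
      rw [reassoc_of% h₂]
  have hrange : Set.range (pullback.diagonal g) = m ⁻¹' closure (Set.range δ) := by
    ext p
    constructor
    · rintro ⟨x, rfl⟩
      refine subset_closure ⟨(f ⁻¹ᵁ N).ι x, ?_⟩
      rw [← Scheme.Hom.comp_apply, ← hdm, Scheme.Hom.comp_apply]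
    · intro hp
      have hN : π (m p) ∈ N := by
        have : m ≫ π = (pullback.fst g g ≫ g) ≫ N.ι := by
          simp only [m, π, Category.assoc]
          erw [pullback.lift_fst_assoc]
          simp [g, morphismRestrict_ι]
        rw [← Scheme.Hom.comp_apply, this, Scheme.Hom.comp_apply]
        exact ((pullback.fst g g ≫ g) p).2
      obtain ⟨x, hx⟩ : m p ∈ Set.range δ := by
        by_contra h
        exact hN (subset_closure ⟨m p, ⟨hp, h⟩, rfl⟩)
      have hxN : f x ∈ N := by
        have : δ ≫ π = f := by simp [δ, π]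
        rwa [← hx, ← Scheme.Hom.comp_apply, this] at hN
      refine ⟨⟨x, hxN⟩, m.isEmbedding.injective ?_⟩
      rw [← Scheme.Hom.comp_apply, hdm, Scheme.Hom.comp_apply, ← hx]
      rfl
  exact IsClosedImmersion.of_isPreimmersion (pullback.diagonal g)
    (hrange ▸ isClosed_closure.preimage m.continuous)

/-- A quasi-compact quasi-separated morphism locally of finite type with finite fibre over a point
without generalisations is finite over an affine neighbourhood of it. -/
theorem exists_affine_isFinite {X Y : Scheme.{u}} (f : X ⟶ Y) [LocallyOfFiniteType f]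
    [QuasiCompact f] [QuasiSeparated f] {v : Y} (hv : ∀ v', v' ⤳ v → v' = v)
    (hfin : (f ⁻¹' {v}).Finite) :
    ∃ V : Y.Opens, IsAffineOpen V ∧ v ∈ V ∧ IsFinite (f ∣_ V) := by
  obtain ⟨N₁, hv₁, hlqf⟩ := exists_nhd_lqf f hv fun x hx => isoIn_of_finite_fibre f (hx ▸ hfin)
  let f₁ := f ∣_ N₁
  have : QuasiCompact f₁ := IsZariskiLocalAtTarget.restrict (P := @QuasiCompact) ‹_› N₁
  have : QuasiSeparated f₁ := IsZariskiLocalAtTarget.restrict (P := @QuasiSeparated) ‹_› N₁
  have : LocallyOfFiniteType f₁ :=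
    IsZariskiLocalAtTarget.restrict (P := @LocallyOfFiniteType) ‹_› N₁
  have hv' : ∀ u' : N₁.toScheme, u' ⤳ ⟨v, hv₁⟩ → u' = ⟨v, hv₁⟩ :=
    fun u' hu' => Subtype.ext (hv _ (hu'.map continuous_subtype_val))
  obtain ⟨N₂, hv₂, hsep⟩ := exists_nhd_separated f₁ hv'
  let f₂ := f₁ ∣_ N₂
  have : QuasiCompact f₂ := IsZariskiLocalAtTarget.restrict (P := @QuasiCompact) ‹_› N₂
  have : LocallyOfFiniteType f₂ :=
    IsZariskiLocalAtTarget.restrict (P := @LocallyOfFiniteType) ‹_› N₂
  obtain ⟨M, hvM, hM⟩ := exists_isFinite_restrict_of_isMin f₂ (u := ⟨⟨v, hv₁⟩, hv₂⟩)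
    fun u' hu' => Subtype.ext (hv' _ (hu'.map continuous_subtype_val))
  have h1 : IsFinite (f₁ ∣_ (N₂.ι ''ᵁ M)) :=
    (MorphismProperty.arrow_mk_iso_iff @IsFinite (morphismRestrictRestrict f₁ N₂ M)).1 hM
  have h0 : IsFinite (f ∣_ (N₁.ι ''ᵁ (N₂.ι ''ᵁ M))) :=
    (MorphismProperty.arrow_mk_iso_iff @IsFinite (morphismRestrictRestrict f N₁ _)).1 h1
  obtain ⟨Q, hQ, hvQ, hQM⟩ := exists_isAffineOpen_mem_and_subset (X := Y) (x := v)
    (U := N₁.ι ''ᵁ (N₂.ι ''ᵁ M)) ⟨⟨v, hv₁⟩, ⟨⟨⟨v, hv₁⟩, hv₂⟩, hvM, rfl⟩, rfl⟩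
  exact ⟨Q, hQ, hvQ, isFinite_restrict_mono f h0 hQM⟩

/-- A point whose closure is an irreducible component has no other generalisation. -/
theorem eq_of_specializes_of_component {Y : Scheme.{u}} {η : Y}
    (hη : closure {η} ∈ irreducibleComponents (Y : Type u)) {v : Y} (h : v ⤳ η) : v = η :=
  (h.antisymm (specializes_iff_mem_closure.2
    (hη.2 isIrreducible_singleton.closure h.closure_subset (subset_closure rfl)))).eq

/-- Finitely many generic points lie in one affine open. -/
theorem exists_isAffineOpen_genericPoints {X : Scheme.{u}}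
    (hX : (irreducibleComponents (X : Type u)).Finite) :
    ∃ W : X.Opens, IsAffineOpen W ∧ genericPoints (X : Type u) ⊆ W := by
  have hG := genericPoints.finite (α := (X : Type u)) hX
  let O : genericPoints (X : Type u) → X.Opens := fun ξ =>
    ⟨(⋃ z ∈ genericPoints (X : Type u) \ {ξ.1}, closure {z})ᶜ,
      ((hG.subset Set.sdiff_subset).isClosed_biUnion fun _ _ => isClosed_closure).isOpen_compl⟩
  have hO : ∀ ξ, ξ.1 ∈ O ξ := fun ξ h => by
    obtain ⟨z, ⟨hz, hne⟩, hzξ⟩ := Set.mem_iUnion₂.1 h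
    exact hne (eq_of_specializes_of_component ξ.2 (specializes_iff_mem_closure.2 hzξ))
  choose W hW hξW hWO using fun ξ =>
    exists_isAffineOpen_mem_and_subset (X := X) (x := ξ.1) (U := O ξ) (hO ξ)
  have : Finite (genericPoints (X : Type u)) := hG
  refine ⟨⨆ ξ, W ξ, IsAffineOpen.iSup_of_disjoint hW fun ξ ξ' hne => ?_,
    fun ξ hξ => TopologicalSpace.Opens.mem_iSup.2 ⟨⟨ξ, hξ⟩, hξW _⟩⟩
  rw [Function.onFun, disjoint_iff, eq_bot_iff]
  intro z hz
  let c : irreducibleComponents (X : Type u) :=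
    ⟨irreducibleComponent z, irreducibleComponent_mem_irreducibleComponents z⟩
  let g := genericPoints.ofComponent c
  have hgz : z ∈ closure {g.1} :=
    (genericPoints.isGenericPoint_ofComponent c).def.symm ▸ mem_irreducibleComponent
  have key : ∀ η, z ∈ W η → η = g := fun η hη => Subtype.ext <| by_contra fun h =>
    hWO η hη (Set.mem_iUnion₂.2 ⟨g.1, ⟨g.2, fun e => h (Set.mem_singleton_iff.1 e).symm⟩, hgz⟩)
  exact hne ((key ξ hz.1).trans (key ξ' hz.2).symm)

/-- If every point over a generic point of a component is a generic point of one of finitely many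
components then the morphism is finite near that point. No separation hypothesis is needed. -/
theorem exists_affine_isFinite_of_generic {X Y : Scheme.{u}} (f : X ⟶ Y) [LocallyOfFiniteType f]
    [QuasiCompact f] (hX : (irreducibleComponents (X : Type u)).Finite) {v : Y}
    (hv : ∀ v', v' ⤳ v → v' = v) (hgen : ∀ x, f x = v → x ∈ genericPoints (X : Type u)) :
    ∃ V : Y.Opens, IsAffineOpen V ∧ v ∈ V ∧ IsFinite (f ∣_ V) := by
  obtain ⟨W, hW, hGW⟩ := exists_isAffineOpen_genericPoints hX
  have hvK : v ∉ closure (f '' (W : Set X)ᶜ) :=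
    not_mem_closure_image f hv W.isOpen.isClosed_compl fun x hx hfx => hx (hGW (hgen x hfx))
  let N : Y.Opens := ⟨_, (isClosed_closure (s := f '' (W : Set X)ᶜ)).isOpen_compl⟩
  have hle : f ⁻¹ᵁ N ≤ W := fun x hx => by_contra fun h => hx (subset_closure ⟨x, h, rfl⟩)
  let f' := f ∣_ N
  have : LocallyOfFiniteType f' := IsZariskiLocalAtTarget.restrict (P := @LocallyOfFiniteType) ‹_› N
  have : QuasiCompact f' := IsZariskiLocalAtTarget.restrict (P := @QuasiCompact) ‹_› N
  have : IsAffine W.toScheme := hW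
  have : (f ⁻¹ᵁ N).toScheme.IsSeparated := ⟨by
    rw [← terminal.comp_from (X.homOfLE hle)]; infer_instance⟩
  have : IsSeparated (f' ≫ terminal.from _) := by
    rw [terminal.comp_from]; infer_instance
  have : IsSeparated f' := IsSeparated.of_comp f' (terminal.from _)
  obtain ⟨M, -, hvM, hM⟩ := exists_affine_isFinite f' (v := ⟨v, hvK⟩)
    (fun u' hu' => Subtype.ext (hv _ (hu'.map continuous_subtype_val))) (by
      refine ((genericPoints.finite (α := (X : Type u)) hX).preimage
        (f ⁻¹ᵁ N).ι.isOpenEmbedding.injective.injOn).subset fun x hx => hgen _ ?_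
      exact (morphismRestrict_base_coe f N x).symm.trans (congrArg Subtype.val hx))
  have h0 : IsFinite (f ∣_ (N.ι ''ᵁ M)) :=
    (MorphismProperty.arrow_mk_iso_iff @IsFinite (morphismRestrictRestrict f N M)).1 hM
  obtain ⟨Q, hQ, hvQ, hQM⟩ := exists_isAffineOpen_mem_and_subset (X := Y) (x := v)
    (U := N.ι ''ᵁ M) ⟨⟨v, hvK⟩, hvM, rfl⟩
  exact ⟨Q, hQ, hvQ, isFinite_restrict_mono f h0 hQM⟩

/-- Finiteness over opens gives finiteness over their union. -/
theorem isFinite_restrict_iSup' {X Y : Scheme.{u}} (f : X ⟶ Y) {ι : Type*} (N : ι → Y.Opens)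
    (h : ∀ i, IsFinite (f ∣_ N i)) : IsFinite (f ∣_ (⨆ i, N i)) := by
  refine IsZariskiLocalAtTarget.of_iSup_eq_top (P := @IsFinite)
    (fun i => (⨆ i, N i).ι ⁻¹ᵁ N i) ?_ fun i => ?_
  · refine top_le_iff.1 fun x _ => ?_
    obtain ⟨i, hi⟩ := TopologicalSpace.Opens.mem_iSup.1 x.2
    exact TopologicalSpace.Opens.mem_iSup.2 ⟨i, hi⟩
  · rw [MorphismProperty.arrow_mk_iso_iff @IsFinite (morphismRestrictRestrict f _ _),
      show (⨆ i, N i).ι ''ᵁ ((⨆ i, N i).ι ⁻¹ᵁ N i) = N i by
        rw [Scheme.Hom.image_preimage_eq_opensRange_inf, Scheme.Opens.opensRange_ι,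
          inf_eq_right.2 (le_iSup N i)]]
    exact h i

end Groth.Agent.FiniteNhd12
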